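import Mathlib.Data.Fintype.Prod
import Mathlib.Data.Fintype.Basic
import Mathlib.Tactic.Common

/-!
# A model of the extraspecial group `2^(1+6)` of plus type and a non-splitting certificate

Elements are three pairs of bits and a central bit; `(a,b)` stands for `e^a f^b`.
We record two automorphisms `actA`, `actB` which are involutions commuting modulo inner
automorphisms, and check that no inner modification of them gives two commuting involutions.
-/

set_option autoImplicit false

namespace CfsgLib.ExtraspecialNonsplit

abbrev M : Type := (Bool × Bool) × (Bool × Bool) × (Bool × Bool) × Bool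

def mulM : M → M → M
  | ((a1, b1), (a2, b2), (a3, b3), c), ((a1', b1'), (a2', b2'), (a3', b3'), c') =>
    ((xor a1 a1', xor b1 b1'), (xor a2 a2', xor b2 b2'), (xor a3 a3', xor b3 b3'),
      xor (xor c c') (xor (xor (b1 && a1') (b2 && a2')) (b3 && a3')))

/-- The commutator form. -/
def beta : M → M → Bool
  | ((a1, b1), (a2, b2), (a3, b3), _), ((a1', b1'), (a2', b2'), (a3', b3'), _) =>
    xor (xor (xor (b1 && a1') (a1 && b1')) (xor (b2 && a2') (a2 && b2')))
      (xor (b3 && a3') (a3 && b3'))

def flipM : M → Bool → M
  | (p1, p2, p3, c), d => (p1, p2, p3, xor c d)

def conjM (k x : M) : M := flipM x (beta k x)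

def oneM : M := ((false, false), (false, false), (false, false), false)
def zM : M := ((false, false), (false, false), (false, false), true)
def ge1 : M := ((true, false), (false, false), (false, false), false)
def gf1 : M := ((false, true), (false, false), (false, false), false)
def ge2 : M := ((false, false), (true, false), (false, false), false)
def gf2 : M := ((false, false), (false, true), (false, false), false)
def ge3 : M := ((false, false), (false, false), (true, false), false)
def gf3 : M := ((false, false), (false, false), (false, true), false)

def bitM (g : M) (a : Bool) : M := bif a then g else oneM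

def evalM (E1 F1 E2 F2 E3 F3 : M) : M → M
  | ((a1, b1), (a2, b2), (a3, b3), c) =>
    mulM (mulM (mulM (mulM (bitM E1 a1) (bitM F1 b1)) (mulM (bitM E2 a2) (bitM F2 b2)))
      (mulM (bitM E3 a3) (bitM F3 b3))) (bitM zM c)

/-- First automorphism: fixes `e1, e3, f1`. -/
def actA : M → M :=
  evalM ge1 gf1
    ((false, false), (true, false), (true, false), false)
    ((false, false), (false, true), (true, false), true)
    ge3
    ((false, false), (true, true), (true, true), true)

/-- Second automorphism: fixes `e1, e3`. -/
def actB : M → M :=
  evalM ge1 ((false, true), (false, false), (true, false), false)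
    ((false, false), (false, true), (false, false), true)
    ((false, false), (true, false), (false, false), true)
    ge3
    ((true, false), (false, false), (false, true), false)

def kAB : M := ((false, false), (true, true), (true, false), false)

theorem flipM_flipM (x : M) (d d' : Bool) : flipM (flipM x d) d' = flipM x (xor d d') := by
  obtain ⟨p1, p2, p3, c⟩ := x
  simp [flipM, Bool.xor_assoc]

theorem flipM_false (x : M) : flipM x false = x := by
  obtain ⟨p1, p2, p3, c⟩ := x
  simp [flipM]

theorem mulM_comm : ∀ x y : M, mulM x y = flipM (mulM y x) (beta x y) := by decide +kernel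

theorem beta_kernel : ∀ x : M, beta x ge1 = false → beta x gf1 = false → beta x ge2 = false →
    beta x gf2 = false → beta x ge3 = false → beta x gf3 = false →
    x = oneM ∨ x = zM := by decide +kernel

theorem beta_sep : ∀ x y : M, beta x ge1 = beta y ge1 → beta x gf1 = beta y gf1 →
    beta x ge2 = beta y ge2 → beta x gf2 = beta y gf2 → beta x ge3 = beta y ge3 →
    beta x gf3 = beta y gf3 → x = y ∨ x = flipM y true := by decide +kernel

theorem actA_mulM : ∀ x y : M, actA (mulM x y) = mulM (actA x) (actA y) := by decide +kernel
theorem actB_mulM : ∀ x y : M, actB (mulM x y) = mulM (actB x) (actB y) := by decide +kernel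
theorem actA_flipM : ∀ x : M, actA (flipM x true) = flipM (actA x) true := by decide +kernel
theorem actB_flipM : ∀ x : M, actB (flipM x true) = flipM (actB x) true := by decide +kernel
theorem actA_actA : ∀ x : M, actA (actA x) = x := by decide +kernel
theorem actB_actB : ∀ x : M, actB (actB x) = x := by decide +kernel
theorem actA_actB : ∀ x : M, actA (actB x) = conjM kAB (actB (actA x)) := by decide +kernel

def gensM : List M := [ge1, gf1, ge2, gf2, ge3, gf3]

def invTest (k : M) (f : M → M) : Bool :=
  gensM.all fun g => decide (conjM k (f (conjM k (f g))) = g)

def commTest (k l : M) : Bool :=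
  gensM.all fun g => decide (conjM k (actA (conjM l (actB g))) = conjM l (actB (conjM k (actA g))))

theorem no_commuting_lifts_aux : ∀ k : M, invTest k actA = true →
    ∀ l : M, invTest l actB = true → commTest k l = false := by decide +kernel

/-- No inner modifications of `actA`, `actB` are commuting involutions. -/
theorem no_commuting_lifts (k l : M)
    (hk : ∀ g ∈ gensM, conjM k (actA (conjM k (actA g))) = g)
    (hl : ∀ g ∈ gensM, conjM l (actB (conjM l (actB g))) = g)
    (hc : ∀ g ∈ gensM, conjM k (actA (conjM l (actB g))) = conjM l (actB (conjM k (actA g)))) :
    False := by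
  have h1 : invTest k actA = true := by simpa [invTest, List.all_eq_true] using hk
  have h2 : invTest l actB = true := by simpa [invTest, List.all_eq_true] using hl
  have h3 : commTest k l = true := by simpa [commTest, List.all_eq_true] using hc
  simp [no_commuting_lifts_aux k h1 l h2] at h3

end CfsgLib.ExtraspecialNonsplit
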