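import Mathlib
import Cfsg.Prelude.Def_Transfer
import Cfsg.Agent.ExtraspecialBasic.Order
import Cfsg.Agent.ExtraspecialNonsplit.Model

/-!
# Three hyperbolic pairs in an extraspecial 2-group of plus type and extension of automorphisms
-/

set_option autoImplicit false

namespace CfsgLib.ExtraspecialNonsplit

open scoped commutatorElement

variable {Q : Type*} [Group Q]

/-- `x ^ a` for a bit `a`. -/
def bit' (x : Q) (a : Bool) : Q := bif a then x else 1

/-- A hyperbolic pair with central involution `z`. -/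
structure Pair (z e f : Q) : Prop where
  sqe : e * e = 1
  sqf : f * f = 1
  comm : f * e = e * f * z

structure Frame (Q : Type*) [Group Q] where
  z : Q
  e1 : Q
  f1 : Q
  e2 : Q
  f2 : Q
  e3 : Q
  f3 : Q
  K : Subgroup Q
  z_ne : z ≠ 1
  z_sq : z * z = 1
  z_comm : ∀ q : Q, z * q = q * z
  center_two : ∀ w ∈ Subgroup.center Q, w = 1 ∨ w = z
  p1 : Pair z e1 f1
  p2 : Pair z e2 f2
  p3 : Pair z e3 f3
  c12 : Commute e1 e2 ∧ Commute e1 f2 ∧ Commute f1 e2 ∧ Commute f1 f2
  c13 : Commute e1 e3 ∧ Commute e1 f3 ∧ Commute f1 e3 ∧ Commute f1 f3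
  c23 : Commute e2 e3 ∧ Commute e2 f3 ∧ Commute f2 e3 ∧ Commute f2 f3
  mem_K : ∀ q : Q, q ∈ K ↔ Commute q e1 ∧ Commute q f1 ∧ Commute q e2 ∧ Commute q f2 ∧
    Commute q e3 ∧ Commute q f3
  sgn : ∀ q g : Q, ∃ s : Bool, q * g = g * q * bit' z s

theorem bit'_mul {z : Q} (hz : z * z = 1) (a b : Bool) :
    bit' z a * bit' z b = bit' z (xor a b) := by
  cases a <;> cases b <;> simp [bit', hz]

theorem bit'_comm {z : Q} (hz : ∀ q : Q, z * q = q * z) (a : Bool) (q : Q) :
    bit' z a * q = q * bit' z a := by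
  cases a <;> simp [bit', hz]

theorem bit'_inj {z : Q} (hz : z ≠ 1) {a b : Bool} (h : bit' z a = bit' z b) : a = b := by
  cases a <;> cases b <;> first | rfl | simp [bit'] at h | skip
  · exact absurd h.symm hz
  · exact absurd h hz

theorem commute_bit' {x y : Q} (h : Commute x y) (a b : Bool) : Commute (bit' x a) (bit' y b) := by
  cases a <;> cases b <;> simp [bit', h]

theorem Pair.mul {z e f : Q} (h : Pair z e f) (hz : z * z = 1) (hzc : ∀ q : Q, z * q = q * z)
    (a b c d : Bool) :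
    bit' e a * bit' f b * (bit' e c * bit' f d) =
      bit' e (xor a c) * bit' f (xor b d) * bit' z (b && c) := by
  have he : ∀ x, e * (e * x) = x := fun x => by rw [← mul_assoc, h.sqe, one_mul]
  have hf : ∀ x, f * (f * x) = x := fun x => by rw [← mul_assoc, h.sqf, one_mul]
  have hfe : ∀ x, f * (e * x) = e * (f * (z * x)) := fun x => by
    rw [← mul_assoc, h.comm]; simp only [mul_assoc]
  have hfe' : f * e = e * (f * z) := by rw [h.comm, mul_assoc]
  have hzf : ∀ x, z * (f * x) = f * (z * x) := fun x => by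
    rw [← mul_assoc, hzc, mul_assoc]
  have hzf' : z * f = f * z := hzc f
  cases a <;> cases b <;> cases c <;> cases d <;>
    simp [bit', mul_assoc, h.sqe, h.sqf, he, hf, hfe, hfe', hzf, hzf']

namespace Frame

variable (F : Frame Q)

/-- The embedding of the model. -/
def psi : M → Q
  | ((a1, b1), (a2, b2), (a3, b3), c) =>
    (bit' F.e1 a1 * bit' F.f1 b1) * (bit' F.e2 a2 * bit' F.f2 b2) *
      (bit' F.e3 a3 * bit' F.f3 b3) * bit' F.z c

theorem psi_mul (x y : M) : F.psi (mulM x y) = F.psi x * F.psi y := by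
  obtain ⟨⟨a1, b1⟩, ⟨a2, b2⟩, ⟨a3, b3⟩, c⟩ := x
  obtain ⟨⟨a1', b1'⟩, ⟨a2', b2'⟩, ⟨a3', b3'⟩, c'⟩ := y
  simp only [mulM, psi]
  have k12 : Commute (bit' F.e2 a2 * bit' F.f2 b2) (bit' F.e1 a1' * bit' F.f1 b1') := by
    obtain ⟨h1, h2, h3, h4⟩ := F.c12
    exact ((commute_bit' h1.symm _ _).mul_right (commute_bit' h3.symm _ _)).mul_left
      ((commute_bit' h2.symm _ _).mul_right (commute_bit' h4.symm _ _))
  have k13 : Commute (bit' F.e3 a3 * bit' F.f3 b3) (bit' F.e1 a1' * bit' F.f1 b1') := by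
    obtain ⟨h1, h2, h3, h4⟩ := F.c13
    exact ((commute_bit' h1.symm _ _).mul_right (commute_bit' h3.symm _ _)).mul_left
      ((commute_bit' h2.symm _ _).mul_right (commute_bit' h4.symm _ _))
  have k23 : Commute (bit' F.e3 a3 * bit' F.f3 b3) (bit' F.e2 a2' * bit' F.f2 b2') := by
    obtain ⟨h1, h2, h3, h4⟩ := F.c23
    exact ((commute_bit' h1.symm _ _).mul_right (commute_bit' h3.symm _ _)).mul_left
      ((commute_bit' h2.symm _ _).mul_right (commute_bit' h4.symm _ _))
  have zc := fun a => bit'_comm F.z_comm a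
  have m1 := F.p1.mul F.z_sq F.z_comm a1 b1 a1' b1'
  have m2 := F.p2.mul F.z_sq F.z_comm a2 b2 a2' b2'
  have m3 := F.p3.mul F.z_sq F.z_comm a3 b3 a3' b3'
  generalize bit' F.e1 a1 * bit' F.f1 b1 = A1 at *
  generalize bit' F.e2 a2 * bit' F.f2 b2 = A2 at *
  generalize bit' F.e3 a3 * bit' F.f3 b3 = A3 at *
  generalize bit' F.e1 a1' * bit' F.f1 b1' = B1 at *
  generalize bit' F.e2 a2' * bit' F.f2 b2' = B2 at *
  generalize bit' F.e3 a3' * bit' F.f3 b3' = B3 at *
  generalize bit' F.e1 (xor a1 a1') * bit' F.f1 (xor b1 b1') = C1 at *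
  generalize bit' F.e2 (xor a2 a2') * bit' F.f2 (xor b2 b2') = C2 at *
  generalize bit' F.e3 (xor a3 a3') * bit' F.f3 (xor b3 b3') = C3 at *
  symm
  calc A1 * A2 * A3 * bit' F.z c * (B1 * B2 * B3 * bit' F.z c')
      = A1 * A2 * A3 * (bit' F.z c * (B1 * B2 * B3)) * bit' F.z c' := by simp only [mul_assoc]
    _ = A1 * A2 * (A3 * B1) * B2 * B3 * (bit' F.z c * bit' F.z c') := by
        rw [zc c (B1 * B2 * B3)]; simp only [mul_assoc]
    _ = A1 * (A2 * B1) * (A3 * B2) * B3 * bit' F.z (xor c c') := by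
        rw [k13.eq, bit'_mul F.z_sq]; simp only [mul_assoc]
    _ = (A1 * B1) * (A2 * B2) * (A3 * B3) * bit' F.z (xor c c') := by
        rw [k12.eq, k23.eq]; simp only [mul_assoc]
    _ = C1 * C2 * C3 * (bit' F.z (b1 && a1') * bit' F.z (b2 && a2') * bit' F.z (b3 && a3') *
          bit' F.z (xor c c')) := by
        rw [m1, m2, m3]
        simp only [mul_assoc]
        rw [← mul_assoc (bit' F.z (b1 && a1')) C2, zc (b1 && a1') C2, mul_assoc,
          ← mul_assoc (bit' F.z (b2 && a2')) C3, zc (b2 && a2') C3, mul_assoc,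
          ← mul_assoc (bit' F.z (b1 && a1')) C3, zc (b1 && a1') C3, mul_assoc]
    _ = _ := by
        rw [bit'_mul F.z_sq, bit'_mul F.z_sq, bit'_mul F.z_sq, Bool.xor_comm]

theorem psi_one : F.psi oneM = 1 := by simp [psi, oneM, bit']
theorem psi_z : F.psi zM = F.z := by simp [psi, zM, bit']
theorem psi_e1 : F.psi ge1 = F.e1 := by simp [psi, ge1, bit']
theorem psi_f1 : F.psi gf1 = F.f1 := by simp [psi, gf1, bit']
theorem psi_e2 : F.psi ge2 = F.e2 := by simp [psi, ge2, bit']
theorem psi_f2 : F.psi gf2 = F.f2 := by simp [psi, gf2, bit']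
theorem psi_e3 : F.psi ge3 = F.e3 := by simp [psi, ge3, bit']
theorem psi_f3 : F.psi gf3 = F.f3 := by simp [psi, gf3, bit']

theorem psi_flip (x : M) (d : Bool) : F.psi (flipM x d) = F.psi x * bit' F.z d := by
  obtain ⟨⟨a1, b1⟩, ⟨a2, b2⟩, ⟨a3, b3⟩, c⟩ := x
  simp only [flipM, psi, mul_assoc, bit'_mul F.z_sq]

theorem psi_comm (x y : M) : F.psi x * F.psi y = F.psi y * F.psi x * bit' F.z (beta x y) := by
  rw [← psi_mul, mulM_comm, psi_flip, psi_mul]

theorem psi_conj (k x : M) : F.psi k * F.psi x * (F.psi k)⁻¹ = F.psi (conjM k x) := by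
  rw [conjM, psi_flip, mul_inv_eq_iff_eq_mul, psi_comm, mul_assoc (F.psi x) (bit' _ _),
    bit'_comm F.z_comm, ← mul_assoc]

theorem beta_eq_false_of_mem {x : M} (hx : F.psi x ∈ F.K) (g : M)
    (hg : g ∈ gensM) : beta x g = false := by
  apply bit'_inj F.z_ne
  have h := psi_comm F x g
  have hc : Commute (F.psi x) (F.psi g) := by
    obtain ⟨h1, h2, h3, h4, h5, h6⟩ := (F.mem_K _).1 hx
    simp only [gensM, List.mem_cons, List.not_mem_nil, or_false] at hg
    rcases hg with rfl | rfl | rfl | rfl | rfl | rfl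
    · rwa [psi_e1]
    · rwa [psi_f1]
    · rwa [psi_e2]
    · rwa [psi_f2]
    · rwa [psi_e3]
    · rwa [psi_f3]
  rw [hc.eq] at h
  exact (mul_eq_left.1 h.symm).trans rfl

theorem K_comm {w : Q} (hw : w ∈ F.K) (x : M) : Commute w (F.psi x) := by
  obtain ⟨h1, h2, h3, h4, h5, h6⟩ := (F.mem_K _).1 hw
  obtain ⟨⟨a1, b1⟩, ⟨a2, b2⟩, ⟨a3, b3⟩, c⟩ := x
  have hb : ∀ (g : Q) (a : Bool), Commute w g → Commute w (bit' g a) := fun g a hg => by
    cases a <;> simp [bit', hg]
  exact (((((hb _ _ h1).mul_right (hb _ _ h2))).mul_right ((hb _ _ h3).mul_right (hb _ _ h4))).mul_right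
    ((hb _ _ h5).mul_right (hb _ _ h6))).mul_right (hb _ _ (F.z_comm w).symm)

theorem psi_injective : Function.Injective F.psi := by
  intro x y h
  have key : ∀ g, beta x g = beta y g := fun g => by
    apply bit'_inj F.z_ne
    have hx := psi_comm F x g
    have hy := psi_comm F y g
    rw [← h] at hy
    exact mul_left_cancel (hx.symm.trans hy)
  rcases beta_sep x y (key _) (key _) (key _) (key _) (key _) (key _) with h' | h'
  · exact h'
  · rw [h', psi_flip] at h
    exact absurd (mul_eq_left.1 h) F.z_ne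

theorem exists_decomp (q : Q) : ∃ x : M, ∃ c ∈ F.K, q = F.psi x * c := by
  choose s hs using F.sgn q
  let x : M := ((s F.f1, s F.e1), (s F.f2, s F.e2), (s F.f3, s F.e3), false)
  refine ⟨x, (F.psi x)⁻¹ * q, ?_, by group⟩
  have key : ∀ g : M, beta x g = s (F.psi g) → Commute ((F.psi x)⁻¹ * q) (F.psi g) := by
    intro g hg
    have h1 := psi_comm F x g
    have h2 := hs (F.psi g)
    rw [← hg] at h2
    apply mul_left_cancel (a := F.psi x)
    calc F.psi x * ((F.psi x)⁻¹ * q * F.psi g) = q * F.psi g := by group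
      _ = F.psi g * q * bit' F.z (beta x g) := h2
      _ = F.psi g * F.psi x * bit' F.z (beta x g) * ((F.psi x)⁻¹ * q) := by
          rw [mul_assoc _ (bit' F.z _), bit'_comm F.z_comm]; group
      _ = F.psi x * F.psi g * ((F.psi x)⁻¹ * q) := by rw [← h1]
      _ = _ := by rw [mul_assoc]
  rw [F.mem_K, ← psi_e1, ← psi_f1, ← psi_e2, ← psi_f2, ← psi_e3, ← psi_f3]
  refine ⟨key _ ?_, key _ ?_, key _ ?_, key _ ?_, key _ ?_, key _ ?_⟩
  all_goals simp [x, beta, ge1, gf1, ge2, gf2, ge3, gf3, psi, bit']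

theorem ext_aux {a : M → M} (hflip : ∀ x, a (flipM x true) = flipM (a x) true) {x y : M} {c d : Q}
    (hc : c ∈ F.K) (hd : d ∈ F.K) (h : F.psi x * c = F.psi y * d) :
    F.psi (a x) * c = F.psi (a y) * d := by
  have key : ∀ g, beta x g = beta y g := fun g => by
    apply bit'_inj F.z_ne
    have hx := psi_comm F x g
    have hy := psi_comm F y g
    have e : F.psi x = F.psi y * (d * c⁻¹) := by rw [← mul_assoc, ← h]; group
    have hw := K_comm F (mul_mem hd (inv_mem hc)) g
    rw [e, mul_assoc, hw.eq, ← mul_assoc, hy] at hx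
    generalize d * c⁻¹ = w at hx
    have h3 : F.psi g * F.psi y * w * bit' F.z (beta y g) =
        F.psi g * F.psi y * w * bit' F.z (beta x g) := by
      rw [mul_assoc _ w, ← bit'_comm F.z_comm, ← mul_assoc, hx]; simp only [mul_assoc]
    exact (mul_left_cancel h3).symm
  rcases beta_sep x y (key _) (key _) (key _) (key _) (key _) (key _) with h' | h'
  · subst h'
    rw [mul_left_cancel h]
  · subst h'
    rw [psi_flip] at h
    rw [hflip, psi_flip]
    rw [mul_assoc] at h
    have := mul_left_cancel h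
    rw [mul_assoc, this]

/-- Extension of a bijective endomorphism of the model by the identity on `K`. -/
theorem exists_extension [Finite Q] (a : M → M) (hmul : ∀ x y, a (mulM x y) = mulM (a x) (a y))
    (hflip : ∀ x, a (flipM x true) = flipM (a x) true) (hinv : Function.Injective a) :
    ∃ α : MulAut Q, ∀ (x : M) (c : Q), c ∈ F.K → α (F.psi x * c) = F.psi (a x) * c := by
  choose X C hC hq using exists_decomp F
  let φ : Q → Q := fun q => F.psi (a (X q)) * C q
  have hφ : ∀ (x : M) (c : Q), c ∈ F.K → φ (F.psi x * c) = F.psi (a x) * c := fun x c hc =>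
    ext_aux F hflip (hC _) hc (hq _).symm
  have hm : ∀ q r, φ (q * r) = φ q * φ r := by
    intro q r
    have e : q * r = F.psi (mulM (X q) (X r)) * (C q * C r) := by
      calc q * r = F.psi (X q) * (C q * F.psi (X r)) * C r := by
            nth_rw 1 [hq q, hq r]; simp only [mul_assoc]
        _ = _ := by rw [(K_comm F (hC q) (X r)).eq, psi_mul]; simp only [mul_assoc]
    rw [e, hφ _ _ (mul_mem (hC q) (hC r)), hmul, psi_mul]
    show _ = F.psi (a (X q)) * C q * (F.psi (a (X r)) * C r)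
    calc _ = F.psi (a (X q)) * (F.psi (a (X r)) * C q) * C r := by simp only [mul_assoc]
      _ = _ := by rw [← (K_comm F (hC q) (a (X r))).eq]; simp only [mul_assoc]
  let f : Q →* Q := MonoidHom.mk' φ hm
  have hf : Function.Injective f := by
    rw [injective_iff_map_eq_one]
    intro q h1
    have h2 : F.psi (a (X q)) * C q = F.psi oneM * 1 := by rw [psi_one, one_mul]; exact h1
    have hy : F.psi (a (X q)) ∈ F.K := by
      rw [psi_one, one_mul, mul_eq_one_iff_eq_inv] at h2
      rw [h2]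
      exact inv_mem (hC q)
    have h4 : a oneM = oneM := by
      apply F.psi_injective
      have := hm 1 1
      rw [mul_one] at this
      have h0 : φ 1 = 1 := mul_eq_left.1 this.symm
      have h5 : φ (F.psi oneM * 1) = F.psi (a oneM) * 1 := hφ _ _ (one_mem _)
      rw [psi_one, one_mul, h0, mul_one] at h5
      rw [psi_one]
      exact h5.symm
    have hzfix : a zM = zM := by
      have : zM = flipM oneM true := rfl
      rw [this, hflip, h4]
    rcases beta_kernel _ (beta_eq_false_of_mem F hy _ (by simp [gensM]))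
      (beta_eq_false_of_mem F hy _ (by simp [gensM]))
      (beta_eq_false_of_mem F hy _ (by simp [gensM]))
      (beta_eq_false_of_mem F hy _ (by simp [gensM]))
      (beta_eq_false_of_mem F hy _ (by simp [gensM]))
      (beta_eq_false_of_mem F hy _ (by simp [gensM])) with h3 | h3
    all_goals
      rw [h3] at h2
      have hX : X q = _ := hinv (h3.trans (by first | exact h4.symm | exact hzfix.symm))
      rw [hq q, hX, h2, psi_one, mul_one]
  exact ⟨MulEquiv.ofBijective f ⟨hf, (Finite.injective_iff_surjective).1 hf⟩, hφ⟩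

end Frame

end CfsgLib.ExtraspecialNonsplit
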