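import Mathlib
import Cfsg.Agent.ExtraspecialNonsplit.Frame

/-!
# A plus type extraspecial 2-group of width at least three has three hyperbolic pairs
-/

set_option autoImplicit false

namespace CfsgLib.ExtraspecialNonsplit

open scoped commutatorElement

variable {Q : Type*} [Group Q]

theorem exists_central_involution (hQ : Cfsg.IsExtraspecial 2 Q) :
    ∃ z : Q, z ≠ 1 ∧ z * z = 1 ∧ (∀ q : Q, z * q = q * z) ∧
      (∀ w ∈ Subgroup.center Q, w = 1 ∨ w = z) ∧
      ∀ x g : Q, ∃ s : Bool, x * g = g * x * bit' z s := by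
  obtain ⟨a, b, hab, huniv⟩ := Nat.card_eq_two_iff.1 hQ.2
  have hall : ∀ w : Subgroup.center Q, w = a ∨ w = b := fun w => by
    have : w ∈ ({a, b} : Set (Subgroup.center Q)) := huniv ▸ Set.mem_univ w
    simpa using this
  obtain ⟨z', hz', hz⟩ : ∃ z' : Subgroup.center Q, z' ≠ 1 ∧ ∀ w, w = 1 ∨ w = z' := by
    rcases hall 1 with h | h
    · exact ⟨b, fun hb => hab (h.symm.trans hb.symm), fun w => (hall w).imp (fun e => e.trans h.symm) id⟩
    · exact ⟨a, fun ha => hab (ha.trans h), fun w => (hall w).symm.imp (fun e => e.trans h.symm) id⟩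
  have hzc : ∀ q : Q, (z' : Q) * q = q * z' := fun q => (Subgroup.mem_center_iff.1 z'.2 q).symm
  have hcen : ∀ w ∈ Subgroup.center Q, w = 1 ∨ w = (z' : Q) := fun w hw =>
    (hz ⟨w, hw⟩).imp (congrArg Subtype.val) (congrArg Subtype.val)
  refine ⟨z', fun h => hz' (Subtype.ext h), ?_, hzc, hcen, fun x g => ?_⟩
  · rcases hz (z' * z') with h | h
    · exact congrArg Subtype.val h
    · exact absurd (mul_eq_left.1 h) hz'
  · rcases hcen _ (ExtraspecialBasic.commutator_mem_center hQ x g) with h | h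
    · exact ⟨false, by simp [bit', (commutatorElement_eq_one_iff_commute.1 h).eq]⟩
    · refine ⟨true, ?_⟩
      simp only [bit', cond_true]
      rw [← hzc (g * x), ← h, commutatorElement_def]
      group

variable {z : Q}

theorem mul_eq_of_not_commute (hs : ∀ x g : Q, ∃ s : Bool, x * g = g * x * bit' z s) {x g : Q}
    (h : ¬ Commute x g) : x * g = g * x * z := by
  obtain ⟨s, hs'⟩ := hs x g
  cases s
  · exact absurd (show x * g = g * x by simpa [bit'] using hs') h
  · simpa [bit'] using hs'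

theorem commute_mul_of_not (hz2 : z * z = 1) (hzc : ∀ q : Q, z * q = q * z)
    (hs : ∀ x g : Q, ∃ s : Bool, x * g = g * x * bit' z s) {x y g : Q}
    (hx : ¬ Commute x g) (hy : ¬ Commute y g) : Commute (x * y) g := by
  have h1 := mul_eq_of_not_commute hs hx
  have h2 := mul_eq_of_not_commute hs hy
  show x * y * g = g * (x * y)
  calc x * y * g = x * (y * g) := mul_assoc _ _ _
    _ = x * g * y * z := by rw [h2]; simp only [mul_assoc]
    _ = g * x * z * y * z := by rw [h1]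
    _ = g * x * y * (z * z) := by rw [mul_assoc (g * x) z y, hzc y]; simp only [mul_assoc]
    _ = _ := by rw [hz2, mul_one, mul_assoc]

theorem mem_centralizer_singleton {x g : Q} :
    x ∈ Subgroup.centralizer ({g} : Set Q) ↔ Commute x g := by
  rw [Subgroup.mem_centralizer_iff]
  exact ⟨fun h => (h g rfl).symm, fun h y hy => by rw [Set.mem_singleton_iff.1 hy]; exact h.eq.symm⟩

theorem exists_pair [Finite Q] (hQ : Cfsg.IsExtraspecial 2 Q) (hz2 : z * z = 1)
    (hzc : ∀ q : Q, z * q = q * z)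
    (hcen : ∀ w ∈ Subgroup.center Q, w = 1 ∨ w = z)
    (hs : ∀ x g : Q, ∃ s : Bool, x * g = g * x * bit' z s)
    (E K : Subgroup Q) (hE : Cfsg.IsElementaryAbelian 2 E) (hEK : 2 < Nat.card ↥(E ⊓ K))
    (hK : ∀ g ∈ K, g ∉ Subgroup.center Q → ∃ y ∈ K, ¬ Commute y g) :
    ∃ e f : Q, ∃ K' : Subgroup Q, e ∈ K ∧ f ∈ K ∧ Pair z e f ∧
      (∀ q, q ∈ K' ↔ q ∈ K ∧ Commute q e ∧ Commute q f) ∧
      (∀ g ∈ K', g ∉ Subgroup.center Q → ∃ y ∈ K', ¬ Commute y g) ∧
      Nat.card ↥(E ⊓ K) ≤ 2 * Nat.card ↥(E ⊓ K') := by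
  classical
  obtain ⟨e, he, heZ⟩ : ∃ e ∈ E ⊓ K, e ∉ Subgroup.center Q := by
    by_contra h
    push Not at h
    have := Nat.card_le_card_of_injective (Subgroup.inclusion h) (Subgroup.inclusion_injective h)
    rw [hQ.2] at this
    omega
  obtain ⟨x, hxK, hxe⟩ := hK e he.2 heZ
  have he2 : e * e = 1 := by rw [← sq]; exact hE.2 e he.1
  obtain ⟨f, hfK, hfe, hf2⟩ : ∃ f ∈ K, ¬ Commute f e ∧ f * f = 1 := by
    rcases hcen _ (by simpa [sq] using ExtraspecialBasic.pow_mem_center hQ x) with h | h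
    · exact ⟨x, hxK, hxe, h⟩
    · refine ⟨x * e, mul_mem hxK he.2, fun hc => hxe ?_, ?_⟩
      · have h1 := hc.mul_left ((Commute.refl e).inv_left)
        rwa [mul_inv_cancel_right] at h1
      · have h1 := mul_eq_of_not_commute hs (fun hc : Commute e x => hxe hc.symm)
        calc x * e * (x * e) = x * (e * x) * e := by simp only [mul_assoc]
          _ = x * x * (e * z * e) := by rw [h1]; simp only [mul_assoc]
          _ = z * z * (e * e) := by rw [h, ← hzc e]; simp only [mul_assoc]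
          _ = 1 := by rw [hz2, he2, one_mul]
  have hP : Pair z e f := ⟨he2, hf2, mul_eq_of_not_commute hs hfe⟩
  let K' : Subgroup Q := K ⊓ Subgroup.centralizer ({e} : Set Q) ⊓ Subgroup.centralizer ({f} : Set Q)
  have hK' : ∀ q, q ∈ K' ↔ q ∈ K ∧ Commute q e ∧ Commute q f := fun q => by
    simp only [K', Subgroup.mem_inf, mem_centralizer_singleton, and_assoc]
  refine ⟨e, f, K', he.2, hfK, hP, hK', ?_, ?_⟩
  · intro g hg hgZ
    obtain ⟨hgK, hge, hgf⟩ := (hK' g).1 hg
    obtain ⟨y, hyK, hy⟩ := hK g hgK hgZ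
    have shift : ∀ a b : Q, ¬ Commute a g → Commute b g → ¬ Commute (a * b) g := by
      intro a b ha hb hc
      apply ha
      have h1 := hc.mul_left hb.inv_left
      rwa [mul_inv_cancel_right] at h1
    obtain ⟨y1, hy1K, hy1, hy1f⟩ : ∃ y1 ∈ K, ¬ Commute y1 g ∧ Commute y1 f := by
      by_cases h : Commute y f
      · exact ⟨y, hyK, hy, h⟩
      · exact ⟨y * e, mul_mem hyK he.2, shift _ _ hy hge.symm,
          commute_mul_of_not hz2 hzc hs h (fun hc => hfe hc.symm)⟩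
    obtain ⟨y2, hy2K, hy2, hy2f, hy2e⟩ : ∃ y2 ∈ K, ¬ Commute y2 g ∧ Commute y2 f ∧ Commute y2 e := by
      by_cases h : Commute y1 e
      · exact ⟨y1, hy1K, hy1, hy1f, h⟩
      · exact ⟨y1 * f, mul_mem hy1K hfK, shift _ _ hy1 hgf.symm,
          hy1f.mul_left (Commute.refl f), commute_mul_of_not hz2 hzc hs h hfe⟩
    exact ⟨y2, (hK' y2).2 ⟨hy2K, hy2e, hy2f⟩, hy2⟩
  · have hEe : ∀ a ∈ E, Commute a e := fun a ha =>
      congrArg Subtype.val ((hE.1).is_comm.comm (⟨a, ha⟩ : E) ⟨e, he.1⟩)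
    have hm : ∀ a : ↥(E ⊓ K), ¬ Commute (a : Q) f → e * (a : Q) ∈ E ⊓ K' := fun a ha =>
      ⟨mul_mem he.1 a.2.1, (hK' _).2 ⟨mul_mem he.2 a.2.2,
        (Commute.refl e).mul_left (hEe _ a.2.1),
        commute_mul_of_not hz2 hzc hs (fun hc => hfe hc.symm) ha⟩⟩
    let ι : ↥(E ⊓ K) → Bool × ↥(E ⊓ K') := fun a =>
      if h : Commute (a : Q) f then (false, ⟨a, a.2.1, (hK' _).2 ⟨a.2.2, hEe _ a.2.1, h⟩⟩)
      else (true, ⟨e * a, hm a h⟩)
    have hι : Function.Injective ι := by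
      intro a b hab
      simp only [ι] at hab
      split at hab <;> split at hab <;> simp only [Prod.mk.injEq, Subtype.mk.injEq] at hab
      · exact Subtype.ext (congrArg (fun t : ↥(E ⊓ K') => (t : Q)) hab.2)
      · exact absurd hab.1 (by decide)
      · exact absurd hab.1 (by decide)
      · exact Subtype.ext (mul_left_cancel hab.2)
    have := Nat.card_le_card_of_injective ι hι
    rwa [Nat.card_prod, show Nat.card Bool = 2 by simp] at this

theorem exists_frame [Finite Q] (hQ : Cfsg.IsExtraspecial 2 Q) (E : Subgroup Q)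
    (hE : Cfsg.IsElementaryAbelian 2 E) (hcard : 16 ≤ Nat.card ↥E) : Nonempty (Frame Q) := by
  obtain ⟨z, hz1, hz2, hzc, hcen, hs⟩ := exists_central_involution hQ
  have h0 : ∀ g ∈ (⊤ : Subgroup Q), g ∉ Subgroup.center Q → ∃ y ∈ (⊤ : Subgroup Q), ¬ Commute y g := by
    intro g _ hg
    by_contra h
    push Not at h
    exact hg (Subgroup.mem_center_iff.2 fun y => (h y (Subgroup.mem_top y)).eq)
  have c0 : 16 ≤ Nat.card ↥(E ⊓ ⊤) := by rwa [inf_top_eq]
  obtain ⟨e1, f1, K1, -, -, p1, hK1, h1, c1⟩ := exists_pair hQ hz2 hzc hcen hs E ⊤ hE (by omega) h0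
  obtain ⟨e2, f2, K2, he2, hf2, p2, hK2, h2, c2⟩ :=
    exists_pair hQ hz2 hzc hcen hs E K1 hE (by omega) h1
  obtain ⟨e3, f3, K3, he3, hf3, p3, hK3, -, -⟩ :=
    exists_pair hQ hz2 hzc hcen hs E K2 hE (by omega) h2
  obtain ⟨-, a1, a2⟩ := (hK1 e2).1 he2
  obtain ⟨-, a3, a4⟩ := (hK1 f2).1 hf2
  obtain ⟨he3', b1, b2⟩ := (hK2 e3).1 he3
  obtain ⟨hf3', b3, b4⟩ := (hK2 f3).1 hf3
  obtain ⟨-, d1, d2⟩ := (hK1 e3).1 he3'
  obtain ⟨-, d3, d4⟩ := (hK1 f3).1 hf3'
  exact ⟨{ z := z, e1 := e1, f1 := f1, e2 := e2, f2 := f2, e3 := e3, f3 := f3, K := K3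
           z_ne := hz1, z_sq := hz2, z_comm := hzc, center_two := hcen
           p1 := p1, p2 := p2, p3 := p3
           c12 := ⟨a1.symm, a3.symm, a2.symm, a4.symm⟩
           c13 := ⟨d1.symm, d3.symm, d2.symm, d4.symm⟩
           c23 := ⟨b1.symm, b3.symm, b2.symm, b4.symm⟩
           mem_K := fun q => by
             rw [hK3, hK2, hK1]
             simp only [Subgroup.mem_top, true_and, and_assoc]
           sgn := hs }⟩

end CfsgLib.ExtraspecialNonsplit
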